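import Mathlib.CategoryTheory.Abelian.RightDerived
import Mathlib.Algebra.Homology.ShortComplex.PreservesHomology
import Mathlib.CategoryTheory.Preadditive.Injective.Preserves
import Mathlib.Algebra.Homology.QuasiIso
import Mathlib.Algebra.Homology.ShortComplex.ExactFunctor

/-!
# Derived functors of composites with exact functors
-/

universe v v' v'' u u' u''

namespace Groth.Agent.Lib.BigEt.Derived

open CategoryTheory CategoryTheory.Limits

variable {C : Type u} [Category.{v} C] [Abelian C] {D : Type u'} [Category.{v'} D] [Abelian D]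
  {E : Type u''} [Category.{v''} E] [Abelian E]

/-- The image of an injective resolution under an exact functor preserving injectives. -/
noncomputable def mapRes {Z : C} (P : InjectiveResolution Z) (Φ : C ⥤ D) [Φ.Additive]
    [PreservesFiniteLimits Φ] [PreservesFiniteColimits Φ] [Φ.PreservesInjectiveObjects] :
    InjectiveResolution (Φ.obj Z) where
  cocomplex := (Φ.mapHomologicalComplex _).obj P.cocomplex
  injective n := Φ.injective_obj_of_injective (P.injective n)
  ι := (HomologicalComplex.singleMapHomologicalComplex Φ (ComplexShape.up ℕ) 0).inv.app Z ≫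
    (Φ.mapHomologicalComplex _).map P.ι
  quasiIso := by
    have : QuasiIso ((Φ.mapHomologicalComplex (ComplexShape.up ℕ)).map P.ι) := inferInstance
    infer_instance

variable [EnoughInjectives C] [EnoughInjectives D]

/-- `R^q (Φ ≫ G) = R^q G ∘ Φ` for `Φ` exact preserving injectives. -/
noncomputable def precompIso (Φ : C ⥤ D) [Φ.Additive]
    [PreservesFiniteLimits Φ] [PreservesFiniteColimits Φ] [Φ.PreservesInjectiveObjects]
    (G : D ⥤ E) [G.Additive] (q : ℕ) (Z : C) :
    ((Φ ⋙ G).rightDerived q).obj Z ≅ (G.rightDerived q).obj (Φ.obj Z) :=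
  (InjectiveResolution.of Z).isoRightDerivedObj (Φ ⋙ G) q ≪≫
    ((mapRes (InjectiveResolution.of Z) Φ).isoRightDerivedObj G q).symm

omit [EnoughInjectives D] in
/-- `R^q (G ≫ Ψ) = Ψ ∘ R^q G` for `Ψ` exact. -/
noncomputable def postcompIso (G : C ⥤ D) [G.Additive] (Ψ : D ⥤ E) [Ψ.Additive]
    [PreservesFiniteLimits Ψ] [PreservesFiniteColimits Ψ] (q : ℕ) (Z : C) :
    ((G ⋙ Ψ).rightDerived q).obj Z ≅ Ψ.obj ((G.rightDerived q).obj Z) :=
  let K := (G.mapHomologicalComplex (ComplexShape.up ℕ)).obj (InjectiveResolution.of Z).cocomplex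
  (InjectiveResolution.of Z).isoRightDerivedObj (G ⋙ Ψ) q ≪≫
    ShortComplex.mapHomologyIso (K.sc q) Ψ ≪≫
      Ψ.mapIso ((InjectiveResolution.of Z).isoRightDerivedObj G q).symm

/-- Naturally isomorphic functors have isomorphic derived functors. -/
noncomputable def natIsoIso {G G' : D ⥤ E} [G.Additive] [G'.Additive] (α : G ≅ G') (q : ℕ) :
    G.rightDerived q ≅ G'.rightDerived q where
  hom := NatTrans.rightDerived α.hom q
  inv := NatTrans.rightDerived α.inv q
  hom_inv_id := by rw [← NatTrans.rightDerived_comp, α.hom_inv_id, NatTrans.rightDerived_id]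
  inv_hom_id := by rw [← NatTrans.rightDerived_comp, α.inv_hom_id, NatTrans.rightDerived_id]

/-- The higher derived functors of an exact functor vanish. -/
theorem isZero_of_exact (G : D ⥤ E) [G.Additive] [PreservesFiniteLimits G]
    [PreservesFiniteColimits G] (q : ℕ) (hq : 0 < q) (Z : D) :
    IsZero ((G.rightDerived q).obj Z) := by
  obtain ⟨q, rfl⟩ := Nat.exists_eq_succ_of_ne_zero hq.ne'
  refine IsZero.of_iso ?_ ((InjectiveResolution.of Z).isoRightDerivedObj G (q + 1))
  exact (HomologicalComplex.exactAt_iff_isZero_homology _ _).1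
    ((InjectiveResolution.of Z).cocomplex_exactAt_succ q |>.map G)

end Groth.Agent.Lib.BigEt.Derived
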