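import Groth.Agent.Lib.EtJ.ExtAdj
import Mathlib.CategoryTheory.Sites.SheafCohomology.Basic
import Mathlib.CategoryTheory.Sites.Pullback
import Mathlib.CategoryTheory.Adjunction.Unique
import Mathlib.CategoryTheory.Adjunction.Additive
import Mathlib.CategoryTheory.Abelian.GrothendieckCategory.HasExt

/-!
# Cohomology along an exact restriction between sites with terminal objects
-/

universe w w₁ w₂ v₁ v₂ u₁ u₂

open CategoryTheory CategoryTheory.Limits CategoryTheory.Abelian Opposite

namespace Groth.Agent.Lib.BigEt.Compare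

variable {C : Type u₁} [Category.{v₁} C] {D : Type u₂} [Category.{v₂} D] (G : C ⥤ D)
  (J : GrothendieckTopology C) (K : GrothendieckTopology D) [G.IsContinuous J K]
  [HasSheafify J AddCommGrpCat.{w}] [HasSheafify K AddCommGrpCat.{w}]
  [(G.sheafPushforwardContinuous AddCommGrpCat.{w} J K).IsRightAdjoint]
  {T : C} (hT : IsTerminal T) (hT' : IsTerminal (G.obj T))

/-- Inverse image of a constant sheaf is constant. -/
noncomputable def pullConstIso :
    constantSheaf J AddCommGrpCat.{w} ⋙ G.sheafPullback AddCommGrpCat.{w} J K ≅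
      constantSheaf K AddCommGrpCat.{w} :=
  Adjunction.leftAdjointUniq
    ((constantSheafAdj J AddCommGrpCat.{w} hT).comp
      (G.sheafAdjunctionContinuous AddCommGrpCat.{w} J K))
    ((constantSheafAdj K AddCommGrpCat.{w} hT').ofNatIsoRight (Iso.refl _))

variable [HasExt.{w₁} (Sheaf J AddCommGrpCat.{w})] [HasExt.{w₂} (Sheaf K AddCommGrpCat.{w})]
  [EnoughInjectives (Sheaf K AddCommGrpCat.{w})]
  [PreservesFiniteLimits (G.sheafPushforwardContinuous AddCommGrpCat.{w} J K)]
  [PreservesFiniteColimits (G.sheafPushforwardContinuous AddCommGrpCat.{w} J K)]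
  [(G.sheafPushforwardContinuous AddCommGrpCat.{w} J K).PreservesInjectiveObjects]

/-- Cohomology of the restriction is cohomology. -/
noncomputable def hEquiv (F : Sheaf K AddCommGrpCat.{w}) (n : ℕ) :
    Sheaf.H.{w₁} ((G.sheafPushforwardContinuous AddCommGrpCat.{w} J K).obj F) n ≃+
      Sheaf.H.{w₂} F n :=
  haveI : (G.sheafPushforwardContinuous AddCommGrpCat.{w} J K).Additive :=
    Functor.additive_of_preserves_binary_products _
  let L := G.sheafPullback AddCommGrpCat.{w} J K
  let A := (constantSheaf J AddCommGrpCat.{w}).obj (AddCommGrpCat.of (ULift.{w} ℤ))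
  let i : L.obj A ≅ (constantSheaf K AddCommGrpCat.{w}).obj (AddCommGrpCat.of (ULift.{w} ℤ)) :=
    (pullConstIso G J K hT hT').app _
  (EtJ.ExtAdj.adjExtEquiv (G.sheafPushforwardContinuous AddCommGrpCat.{w} J K)
    (G.sheafAdjunctionContinuous AddCommGrpCat.{w} J K) A F n).symm.trans
    { toFun := fun e => (Ext.mk₀ i.inv).comp e (zero_add n)
      invFun := fun e => (Ext.mk₀ i.hom).comp e (zero_add n)
      left_inv := fun e => by
        dsimp only
        rw [← Ext.comp_assoc_of_second_deg_zero, Ext.mk₀_comp_mk₀, i.hom_inv_id, Ext.mk₀_id_comp]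
      right_inv := fun e => by
        dsimp only
        rw [← Ext.comp_assoc_of_second_deg_zero, Ext.mk₀_comp_mk₀, i.inv_hom_id, Ext.mk₀_id_comp]
      map_add' := fun e e' => Ext.comp_add _ _ _ _ }

end Groth.Agent.Lib.BigEt.Compare
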