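import Groth.Agent.Lib.BigEt.Basic
import Mathlib.CategoryTheory.Sites.Spaces
import Mathlib.AlgebraicGeometry.Sites.MorphismProperty

/-!
# The small Zariski site inside the big site
-/

universe u

open CategoryTheory CategoryTheory.Limits AlgebraicGeometry Opposite TopologicalSpace

namespace Groth.Agent.Lib.BigEt.Zar

variable (X : Scheme.{u})

instance zarIncl_flat : RepresentablyFlat (BigSite.zarIncl X) where
  cofiltered W := by
    let top : StructuredArrow W (BigSite.zarIncl X) :=
      StructuredArrow.mk (Y := (⊤ : X.Opens))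
        (Over.homMk (W.hom ≫ X.topIso.inv) (by
          change (W.hom ≫ X.topIso.inv) ≫ (⊤ : X.Opens).ι = W.hom
          rw [Category.assoc, ← Scheme.topIso_hom, Iso.inv_hom_id, Category.comp_id]))
    refine { nonempty := ⟨top⟩, cone_objs := ?_, cone_maps := ?_ }
    · intro A B
      have hr : ∀ C : StructuredArrow W (BigSite.zarIncl X), ∀ w, W.hom.base w ∈ C.right := by
        intro C w
        have h : C.hom.left ≫ C.right.ι = W.hom := Over.w C.hom
        rw [← h]
        change C.right.ι.base (C.hom.left.base w) ∈ C.right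
        exact (C.hom.left.base w).2
      let V : X.Opens := A.right ⊓ B.right
      have hV : Set.range W.hom.base ⊆ Set.range V.ι.base := by
        rintro _ ⟨w, rfl⟩
        rw [Scheme.Opens.range_ι]
        exact ⟨hr A w, hr B w⟩
      let lv : W.left ⟶ (V : Scheme.{u}) := IsOpenImmersion.lift V.ι W.hom hV
      have hlv : lv ≫ V.ι = W.hom := IsOpenImmersion.lift_fac _ _ _
      let D : StructuredArrow W (BigSite.zarIncl X) :=
        StructuredArrow.mk (Y := V) (Over.homMk lv hlv)
      have hmap : ∀ (C : StructuredArrow W (BigSite.zarIncl X)) (h : V ⟶ C.right),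
          D.hom ≫ (BigSite.zarIncl X).map h = C.hom := by
        intro C h
        apply Over.OverMorphism.ext
        refine (cancel_mono C.right.ι).1 ?_
        have h1 : C.hom.left ≫ C.right.ι = W.hom := Over.w C.hom
        have h2 : (D.hom ≫ (BigSite.zarIncl X).map h).left ≫ C.right.ι = W.hom :=
          Over.w (D.hom ≫ (BigSite.zarIncl X).map h)
        exact h2.trans h1.symm
      exact ⟨D, StructuredArrow.homMk (homOfLE inf_le_left) (hmap A _),
        StructuredArrow.homMk (homOfLE inf_le_right) (hmap B _), trivial⟩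
    · intro A B f g
      exact ⟨A, 𝟙 A, by rw [StructuredArrow.ext f g (Subsingleton.elim _ _)]⟩

instance zarIncl_cocontinuous :
    (BigSite.zarIncl X).IsCocontinuous (Opens.grothendieckTopology X)
      (QuotSh.J Scheme.zariskiPrecoverage X) where
  cover_lift {U S} hS := by
    intro x hx
    rw [GrothendieckTopology.mem_over_iff,
      Precoverage.mem_toGrothendieck_iff_of_isStableUnderComposition] at hS
    obtain ⟨R, hR, hle⟩ := hS
    obtain ⟨_, _, ⟨hg'⟩, hy'⟩ := hR.1 (⟨x, hx⟩ : (U : Scheme.{u}))
    rename_i Y g
    obtain ⟨y, hy⟩ := hy'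
    have hg : R g := hg'
    let g' : Y ⟶ (U : Scheme.{u}) := g
    have : IsOpenImmersion g' := hR.2 hg
    let h : Y ⟶ X := g' ≫ U.ι
    let V : X.Opens := h.opensRange
    have hle' : V ≤ U := by
      intro z' hz'
      obtain ⟨z, rfl⟩ : z' ∈ Set.range h.base := hz'
      exact (g'.base z).2
    refine ⟨V, homOfLE hle', ?_, ?_⟩
    · change S ((BigSite.zarIncl X).map (homOfLE hle'))
      let e : Over.mk h ⟶ (BigSite.zarIncl X).obj U := Over.homMk g rfl
      have hS' : S e := (Sieve.overEquiv_iff S g).1 (hle _ _ hg)
      let l : (V : Scheme.{u}) ⟶ Y := h.isoOpensRange.inv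
      have hl : l ≫ h = V.ι := h.isoOpensRange_inv_comp
      let k : (BigSite.zarIncl X).obj V ⟶ Over.mk h := Over.homMk l hl
      convert S.downward_closed hS' k using 1
      apply Over.OverMorphism.ext
      refine (cancel_mono U.ι).1 ?_
      have h1 : ∀ q : (BigSite.zarIncl X).obj V ⟶ (BigSite.zarIncl X).obj U,
          q.left ≫ U.ι = V.ι := fun q => Over.w q
      exact (h1 _).trans (h1 (k ≫ e)).symm
    · change x ∈ Set.range h.base
      refine ⟨y, ?_⟩
      change (U.ι).base (g'.base y) = x
      have hy'' : g'.base y = (⟨x, hx⟩ : (U : Scheme.{u})) := hy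
      rw [hy'']
      rfl

instance lan_zarIncl_preservesFiniteLimits :
    PreservesFiniteLimits ((BigSite.zarIncl X).op.lan : (_ ⥤ AddCommGrpCat.{u + 1}) ⥤ _) := by
  have : ∀ W, HasExactColimitsOfShape (CostructuredArrow (BigSite.zarIncl X).op W)
      AddCommGrpCat.{u + 1} := fun W => by
    have : IsFiltered (CostructuredArrow (BigSite.zarIncl X).op W) :=
      IsFiltered.of_equivalence (structuredArrowOpEquivalence (BigSite.zarIncl X) W.unop)
    have : AB5OfSize.{u, u} AddCommGrpCat.{u + 1} := AB5OfSize_of_univLE AddCommGrpCat.{u + 1}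
    exact AB5OfSize.ofShape _
  exact EtJ.ExtZero.lan_preservesFiniteLimits_of_exact _

variable (K : Precoverage Scheme.{u}) [BigSite.ZarCont K X]

instance resZar_preservesFiniteLimits : PreservesFiniteLimits (BigSite.resZar K X) :=
  have : PreservesLimitsOfSize.{0, 0} (BigSite.resZar K X) :=
    (BigSite.piZarAdj K X).rightAdjoint_preservesLimits
  PreservesLimitsOfSize.preservesFiniteLimits _

instance piZarPull_preservesFiniteLimits : PreservesFiniteLimits (BigSite.piZarPull K X) :=
  Basic.sheafPullback_preservesFiniteLimits (BigSite.zarIncl X) _ _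

instance resZar_preservesInjectiveObjects : (BigSite.resZar K X).PreservesInjectiveObjects :=
  Basic.preservesInjective_of_pullback (BigSite.zarIncl X) (Opens.grothendieckTopology X)
    (QuotSh.J K X)

/-- For the Zariski topology the restriction to the small site is exact. -/
theorem resZar_preservesFiniteColimits [BigSite.ZarCont Scheme.zariskiPrecoverage X] :
    PreservesFiniteColimits (BigSite.resZar Scheme.zariskiPrecoverage X) :=
  have : PreservesColimitsOfSize.{0, 0} (BigSite.resZar Scheme.zariskiPrecoverage X) :=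
    ((BigSite.zarIncl X).sheafAdjunctionCocontinuous AddCommGrpCat.{u + 1}
      (Opens.grothendieckTopology X) (QuotSh.J Scheme.zariskiPrecoverage X)).leftAdjoint_preservesColimits
  PreservesColimitsOfSize.preservesFiniteColimits _

/-- The open `⊤` is final on the big site. -/
noncomputable def isTerminalTop : IsTerminal ((BigSite.zarIncl X).obj ⊤) :=
  Over.mkIdTerminal.ofIso (Over.isoMk X.topIso.symm (by
    change X.topIso.inv ≫ (⊤ : X.Opens).ι = 𝟙 X
    rw [← Scheme.topIso_hom, Iso.inv_hom_id]))

end Groth.Agent.Lib.BigEt.Zar
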