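import Groth.Prelude.Def_BigSite
import Groth.Agent.Lib.EtJ.ExtZero
import Mathlib.CategoryTheory.Functor.Flat
import Mathlib.CategoryTheory.Filtered.Final
import Mathlib.CategoryTheory.Preadditive.Injective.Preserves

/-!
# Big sites: exactness of the comparison and localization functors
-/

universe v₁ v₂ u u₁ u₂

open CategoryTheory CategoryTheory.Limits AlgebraicGeometry Opposite

namespace Groth.Agent.Lib.BigEt.Basic

section General

variable {C : Type u₁} [Category.{v₁} C] {D : Type u₂} [Category.{v₂} D] (G : C ⥤ D)
  (J : GrothendieckTopology C) (K : GrothendieckTopology D) [G.IsContinuous J K]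
  [∀ (F : Cᵒᵖ ⥤ AddCommGrpCat.{u + 1}), G.op.HasLeftKanExtension F]
  [HasSheafify K AddCommGrpCat.{u + 1}]

theorem sheafPullback_preservesFiniteLimits
    [PreservesFiniteLimits (G.op.lan : (_ ⥤ AddCommGrpCat.{u + 1}) ⥤ _)] :
    PreservesFiniteLimits (G.sheafPullback AddCommGrpCat.{u + 1} J K) := by
  have : PreservesFiniteLimits
      (Functor.sheafPullbackConstruction.sheafPullback G AddCommGrpCat.{u + 1} J K) := by
    have : PreservesFiniteLimits (G.op.lan ⋙ presheafToSheaf K AddCommGrpCat.{u + 1}) :=
      comp_preservesFiniteLimits _ _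
    exact comp_preservesFiniteLimits _ _
  exact preservesFiniteLimits_of_natIso
    (Functor.sheafPullbackConstruction.sheafPullbackIso G AddCommGrpCat.{u + 1} J K).symm

theorem preservesInjective_of_pullback
    [PreservesFiniteLimits (G.sheafPullback AddCommGrpCat.{u + 1} J K)] :
    (G.sheafPushforwardContinuous AddCommGrpCat.{u + 1} J K).PreservesInjectiveObjects :=
  have : PreservesLimitsOfShape WalkingCospan (G.sheafPullback AddCommGrpCat.{u + 1} J K) :=
    inferInstance
  Functor.preservesInjectiveObjects_of_adjunction_of_preservesMonomorphisms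
    (G.sheafAdjunctionContinuous AddCommGrpCat.{u + 1} J K)

end General

variable {S T : Scheme.{u}} (f : T ⟶ S)

instance preservesFiniteLimits_a (X : Scheme.{u}) : PreservesFiniteLimits (EtFppf.a X) :=
  inferInstanceAs (PreservesFiniteLimits (Scheme.Etale.forget X))

instance representablyFlat_a (X : Scheme.{u}) : RepresentablyFlat (EtFppf.a X) :=
  flat_of_preservesFiniteLimits _

instance lan_a_preservesFiniteLimits (X : Scheme.{u}) :
    PreservesFiniteLimits ((EtFppf.a X).op.lan : (_ ⥤ AddCommGrpCat.{u + 1}) ⥤ _) := by
  have : ∀ W, HasExactColimitsOfShape (CostructuredArrow (EtFppf.a X).op W)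
      AddCommGrpCat.{u + 1} := fun W => by
    have : IsFiltered (CostructuredArrow (EtFppf.a X).op W) :=
      IsFiltered.of_equivalence (structuredArrowOpEquivalence (EtFppf.a X) W.unop)
    have : AB5OfSize.{u, u + 1} AddCommGrpCat.{u + 1} := AB5OfSize_of_univLE AddCommGrpCat.{u + 1}
    exact AB5OfSize.ofShape _
  exact EtJ.ExtZero.lan_preservesFiniteLimits_of_exact _

/-- The discrete final subcategory of the comma category of `Over.map f`. -/
noncomputable def discreteFunctor (W : Over S) :
    Discrete (W ⟶ Over.mk f) ⥤ CostructuredArrow (Over.map f).op (op W) :=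
  Discrete.functor fun φ =>
    CostructuredArrow.mk (Y := op (Over.mk φ.left))
      (Over.homMk (𝟙 W.left) ((Category.id_comp _).trans (Over.w φ)) :
        W ⟶ (Over.map f).obj (Over.mk φ.left)).op

instance discreteFunctor_final (W : Over S) : (discreteFunctor f W).Final where
  out d := by
    let g : W ⟶ (Over.map f).obj d.left.unop := d.hom.unop
    have hg : g.left ≫ d.left.unop.hom ≫ f = W.hom := Over.w g
    let φ : W ⟶ Over.mk f := Over.homMk (g.left ≫ d.left.unop.hom)
      ((Category.assoc _ _ _).trans hg)
    let k : Over.mk φ.left ⟶ d.left.unop := Over.homMk g.left rfl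
    let a : d ⟶ (discreteFunctor f W).obj ⟨φ⟩ := CostructuredArrow.homMk k.op
      (Quiver.Hom.unop_inj (Over.OverMorphism.ext (Category.id_comp _)))
    have key : ∀ y : StructuredArrow d (discreteFunctor f W),
        y = StructuredArrow.mk (Y := (⟨φ⟩ : Discrete (W ⟶ Over.mk f))) a := by
      rintro ⟨⟨⟨⟩⟩, ⟨ψ⟩, b⟩
      have hb : b.left.unop.left = g.left := by
        have := congrArg (fun m => m.unop.left) (CostructuredArrow.w b)
        exact (Category.id_comp _).symm.trans this
      have hw : b.left.unop.left ≫ d.left.unop.hom = ψ.left := Over.w b.left.unop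
      obtain rfl : ψ = φ := Over.OverMorphism.ext (by rw [← hw, hb]; rfl)
      obtain rfl : b = a := CostructuredArrow.hom_ext _ _
        (Quiver.Hom.unop_inj (Over.OverMorphism.ext hb))
      rfl
    have : Nonempty (StructuredArrow d (discreteFunctor f W)) := ⟨StructuredArrow.mk a⟩
    exact zigzag_isConnected fun y z => by rw [key y, key z]

instance lan_map_preservesFiniteLimits :
    PreservesFiniteLimits ((Over.map f).op.lan : (_ ⥤ AddCommGrpCat.{u + 1}) ⥤ _) := by
  have : ∀ W, HasExactColimitsOfShape (CostructuredArrow (Over.map f).op W)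
      AddCommGrpCat.{u + 1} := by
    rintro ⟨W⟩
    have : HasExactColimitsOfShape (Discrete (W ⟶ Over.mk f)) AddCommGrpCat.{u + 1} :=
      HasExactColimitsOfShape.of_domain_equivalence AddCommGrpCat.{u + 1}
        (Discrete.equivalence (Equiv.ulift.{u + 1} (α := W ⟶ Over.mk f)))
    exact hasExactColimitsOfShape_of_final AddCommGrpCat.{u + 1} (discreteFunctor f W)
  exact EtJ.ExtZero.lan_preservesFiniteLimits_of_exact _

variable (K : Precoverage Scheme.{u})

instance shriekAb_preservesFiniteLimits : PreservesFiniteLimits (BigSite.shriekAb K f) :=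
  sheafPullback_preservesFiniteLimits (Over.map f) _ _

instance pullBig_preservesInjectiveObjects :
    (BigSite.pullBig K f AddCommGrpCat.{u + 1}).PreservesInjectiveObjects :=
  preservesInjective_of_pullback (Over.map f) (QuotSh.J K T) (QuotSh.J K S)

instance pullBig_preservesFiniteColimits :
    PreservesFiniteColimits (BigSite.pullBig K f AddCommGrpCat.{u + 1}) :=
  have : PreservesColimitsOfSize.{0, 0} (BigSite.pullBig K f AddCommGrpCat.{u + 1}) :=
    (BigSite.bigAdj K f AddCommGrpCat.{u + 1}).leftAdjoint_preservesColimits
  PreservesColimitsOfSize.preservesFiniteColimits _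

instance pullBig_preservesFiniteLimits :
    PreservesFiniteLimits (BigSite.pullBig K f AddCommGrpCat.{u + 1}) :=
  have : PreservesLimitsOfSize.{0, 0} (BigSite.pullBig K f AddCommGrpCat.{u + 1}) :=
    (BigSite.shriekAbAdj K f).rightAdjoint_preservesLimits
  PreservesLimitsOfSize.preservesFiniteLimits _

instance piEtPull_preservesFiniteLimits (X : Scheme.{u}) [BigSite.AEtCont K X] :
    PreservesFiniteLimits (BigSite.piEtPull K X) :=
  sheafPullback_preservesFiniteLimits (EtFppf.a X) _ _

instance resEt_preservesInjectiveObjects (X : Scheme.{u}) [BigSite.AEtCont K X] :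
    (BigSite.resEt K X).PreservesInjectiveObjects :=
  preservesInjective_of_pullback (EtFppf.a X) X.smallEtaleTopology (QuotSh.J K X)

instance resEt_preservesFiniteLimits (X : Scheme.{u}) [BigSite.AEtCont K X] :
    PreservesFiniteLimits (BigSite.resEt K X) :=
  have : PreservesLimitsOfSize.{0, 0} (BigSite.resEt K X) :=
    (BigSite.piEtAdj K X).rightAdjoint_preservesLimits
  PreservesLimitsOfSize.preservesFiniteLimits _

instance resEt_preservesFiniteColimits (X : Scheme.{u}) [BigSite.AEtCont K X]
    [BigSite.AEtCocont K X] : PreservesFiniteColimits (BigSite.resEt K X) :=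
  have : PreservesColimitsOfSize.{0, 0} (BigSite.resEt K X) :=
    (BigSite.iEtAdj K X).leftAdjoint_preservesColimits
  PreservesColimitsOfSize.preservesFiniteColimits _

variable [BigSite.AEtCont K T]

instance resEtAlong_preservesFiniteLimits : PreservesFiniteLimits (BigSite.resEtAlong K f) :=
  comp_preservesFiniteLimits _ _

instance resEtAlong_preservesFiniteColimits [BigSite.AEtCocont K T] :
    PreservesFiniteColimits (BigSite.resEtAlong K f) :=
  comp_preservesFiniteColimits _ _

instance resEtAlong_preservesInjectiveObjects :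
    (BigSite.resEtAlong K f).PreservesInjectiveObjects :=
  Functor.preservesInjectiveObjects_comp _ _

end Groth.Agent.Lib.BigEt.Basic
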