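import Mathlib.CategoryTheory.Sites.CoverLifting
import Mathlib.CategoryTheory.Sites.Pullback
import Mathlib.CategoryTheory.Adjunction.Triple
import Mathlib.CategoryTheory.Adjunction.FullyFaithful

/-!
# Pullback along a fully faithful continuous and cocontinuous functor
-/

universe v₁ v₂ v₃ u₁ u₂ u₃

open CategoryTheory CategoryTheory.Limits Opposite

namespace Groth.Agent.Lib.BigEt.Unit

variable {C : Type u₁} [Category.{v₁} C] {D : Type u₂} [Category.{v₂} D] (G : C ⥤ D)
  (A : Type u₃) [Category.{v₃} A] (J : GrothendieckTopology C) (K : GrothendieckTopology D)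
  [G.IsContinuous J K] [G.IsCocontinuous J K] [G.Full] [G.Faithful]
  [∀ (F : Cᵒᵖ ⥤ A), G.op.HasPointwiseRightKanExtension F]
  [(G.sheafPushforwardContinuous A J K).IsRightAdjoint]

omit [(G.sheafPushforwardContinuous A J K).IsRightAdjoint] in
theorem isIso_counit (F : Sheaf J A) :
    IsIso ((G.sheafAdjunctionCocontinuous A J K).counit.app F) := by
  have : IsIso ((sheafToPresheaf J A).map ((G.sheafAdjunctionCocontinuous A J K).counit.app F)) := by
    change IsIso ((G.sheafAdjunctionCocontinuous A J K).counit.app F).hom
    rw [G.sheafAdjunctionCocontinuous_counit_app_hom]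
    rw [Functor.ranAdjunction_counit]
    exact @NatIso.hom_app_isIso _ _ _ _ _ _ (asIso G.op.ranCounit) F.obj
  exact isIso_of_reflects_iso _ (sheafToPresheaf J A)

theorem isIso_unit (F : Sheaf J A) :
    IsIso ((G.sheafAdjunctionContinuous A J K).unit.app F) := by
  have : IsIso (G.sheafAdjunctionCocontinuous A J K).counit := by
    have := isIso_counit G A J K
    exact NatIso.isIso_of_isIso_app _
  let T : Adjunction.Triple (G.sheafPullback A J K) (G.sheafPushforwardContinuous A J K)
      (G.sheafPushforwardCocontinuous A J K) :=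
    { adj₁ := G.sheafAdjunctionContinuous A J K, adj₂ := G.sheafAdjunctionCocontinuous A J K }
  have hff : (G.sheafPullback A J K).FullyFaithful :=
    T.fullyFaithfulEquiv.symm (G.sheafAdjunctionCocontinuous A J K).fullyFaithfulROfIsIsoCounit
  have := hff.full
  have := hff.faithful
  infer_instance

end Groth.Agent.Lib.BigEt.Unit
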