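import Groth.Prelude.Def_BigSite
import Mathlib.CategoryTheory.MorphismProperty.OverAdjunction

/-!
# Base change for big sites
-/

universe u v' u'

open CategoryTheory CategoryTheory.Limits AlgebraicGeometry Opposite

namespace Groth.Agent.Lib.BigEt.BaseChange

variable {S T S' T' : Scheme.{u}} {f : T ⟶ S} {g : S' ⟶ S} {g' : T' ⟶ T} {f' : T' ⟶ S'}

theorem isPullback_fst_snd_comp (hsq : IsPullback g' f' f g) (V : Over S') :
    IsPullback (pullback.fst V.hom f') (pullback.snd V.hom f' ≫ g') (V.hom ≫ g) f :=
  (IsPullback.of_hasPullback V.hom f').paste_vert hsq.flip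

/-- `(V ×_{S'} T') ≅ (V ×_S T)` over `T`. -/
noncomputable def objIso (hsq : IsPullback g' f' f g) (V : Over S') :
    (Over.map g').obj ((Over.pullback f').obj V) ≅ (Over.pullback f).obj ((Over.map g).obj V) :=
  Over.isoMk (isPullback_fst_snd_comp hsq V).isoPullback
    (IsPullback.isoPullback_hom_snd _)

theorem objIso_hom_fst (hsq : IsPullback g' f' f g) (V : Over S') :
    (objIso hsq V).hom.left ≫ pullback.fst (V.hom ≫ g) f = pullback.fst V.hom f' :=
  (isPullback_fst_snd_comp hsq V).isoPullback_hom_fst

theorem objIso_hom_snd (hsq : IsPullback g' f' f g) (V : Over S') :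
    (objIso hsq V).hom.left ≫ pullback.snd (V.hom ≫ g) f = pullback.snd V.hom f' ≫ g' :=
  (isPullback_fst_snd_comp hsq V).isoPullback_hom_snd

theorem pullback_map_left_fst {X Y : Scheme.{u}} (h : X ⟶ Y) {V W : Over Y} (m : V ⟶ W) :
    ((Over.pullback h).map m).left ≫ pullback.fst W.hom h = pullback.fst V.hom h ≫ m.left :=
  pullback.lift_fst _ _ _

theorem pullback_map_left_snd {X Y : Scheme.{u}} (h : X ⟶ Y) {V W : Over Y} (m : V ⟶ W) :
    ((Over.pullback h).map m).left ≫ pullback.snd W.hom h = pullback.snd V.hom h :=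
  pullback.lift_snd _ _ _

theorem overIso_naturality (hsq : IsPullback g' f' f g) {V W : Over S'} (m : V ⟶ W) :
    (Over.map g').map ((Over.pullback f').map m) ≫ (objIso hsq W).hom =
      (objIso hsq V).hom ≫ (Over.pullback f).map ((Over.map g).map m) := by
  apply Over.OverMorphism.ext
  change ((Over.pullback f').map m).left ≫ (objIso hsq W).hom.left =
    (objIso hsq V).hom.left ≫ ((Over.pullback f).map ((Over.map g).map m)).left
  apply pullback.hom_ext
  · refine (Category.assoc _ _ _).trans (Eq.trans ?_ (Category.assoc _ _ _).symm)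
    refine (congrArg (_ ≫ ·) (objIso_hom_fst hsq W)).trans (Eq.trans ?_
      (congrArg ((objIso hsq V).hom.left ≫ ·)
        (pullback_map_left_fst f ((Over.map g).map m))).symm)
    refine (pullback_map_left_fst f' m).trans ?_
    exact ((Category.assoc _ _ _).symm.trans
      (congrArg (· ≫ m.left) (objIso_hom_fst hsq V))).symm
  · refine (Category.assoc _ _ _).trans (Eq.trans ?_ (Category.assoc _ _ _).symm)
    refine (congrArg (_ ≫ ·) (objIso_hom_snd hsq W)).trans (Eq.trans ?_
      (congrArg ((objIso hsq V).hom.left ≫ ·)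
        (pullback_map_left_snd f ((Over.map g).map m))).symm)
    exact ((Category.assoc _ _ _).symm.trans
      (congrArg (· ≫ g') (pullback_map_left_snd f' m))).trans (objIso_hom_snd hsq V).symm

/-- The base change isomorphism of site functors. -/
noncomputable def overIso (hsq : IsPullback g' f' f g) :
    Over.pullback f' ⋙ Over.map g' ≅ Over.map g ⋙ Over.pullback f :=
  NatIso.ofComponents (objIso hsq) (fun m => overIso_naturality hsq m)

/-- An isomorphism of functors of sheaf categories from one of underlying presheaves. -/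
noncomputable def liftIso {C : Type*} [Category C] {J : GrothendieckTopology C} {B : Type*}
    [Category B] {A : Type u'} [Category.{v'} A] {P Q : B ⥤ Sheaf J A}
    (α : P ⋙ sheafToPresheaf J A ≅ Q ⋙ sheafToPresheaf J A) : P ≅ Q :=
  (fullyFaithfulSheafToPresheaf J A).whiskeringRight B |>.preimageIso α

/-- The base change isomorphism for direct and inverse images on big sites. -/
noncomputable def pushPullIso (hsq : IsPullback g' f' f g) (K : Precoverage Scheme.{u})
    (A : Type u') [Category.{v'} A] :
    BigSite.pullBig K g' A ⋙ BigSite.pushBig K f' A ≅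
      BigSite.pushBig K f A ⋙ BigSite.pullBig K g A :=
  liftIso (Functor.isoWhiskerLeft (sheafToPresheaf (QuotSh.J K T) A)
    ((Functor.whiskeringLeft _ _ A).mapIso (NatIso.op (overIso hsq).symm)))

/-- The mixed base change isomorphism: big direct image restricted to small etale sites. -/
noncomputable def resPushIso (hsq : IsPullback g' f' f g) (K : Precoverage Scheme.{u})
    [BigSite.AEtCont K S'] [BigSite.AEtCont K T'] :
    BigSite.resEtAlong K g' ⋙ EtCoh.push f' ≅
      BigSite.pushBig K f AddCommGrpCat.{u + 1} ⋙ BigSite.resEtAlong K g :=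
  let e : EtCoh.bc f' ⋙ EtFppf.a T' ⋙ Over.map g' ≅
      EtFppf.a S' ⋙ Over.map g ⋙ Over.pullback f :=
    (Functor.associator _ _ _).symm ≪≫
      Functor.isoWhiskerRight
        (MorphismProperty.Over.pullbackCompForgetIso (P := EtCoh.etaleMP) (Q := ⊤) f') _ ≪≫
      Functor.associator _ _ _ ≪≫ Functor.isoWhiskerLeft (EtFppf.a S') (overIso hsq)
  liftIso (Functor.isoWhiskerLeft (sheafToPresheaf (QuotSh.J K T) AddCommGrpCat.{u + 1})
    ((Functor.whiskeringLeft _ _ AddCommGrpCat.{u + 1}).mapIso (NatIso.op e.symm)))

end Groth.Agent.Lib.BigEt.BaseChange
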