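import Groth.Agent.Lib.BigEt.BaseChange
import Groth.Agent.Lib.BigEt.Basic
import Groth.Agent.Lib.BigEt.Compare
import Groth.Agent.Lib.BigEt.Unit
import Mathlib.CategoryTheory.Adjunction.Unique

/-!
# Inverse image from the small etale site commutes with change of base
-/

universe u w w₁

open CategoryTheory CategoryTheory.Limits CategoryTheory.Abelian AlgebraicGeometry Opposite

namespace Groth.Agent.Lib.BigEt.PiPull

variable {T S : Scheme.{u}} (f : T ⟶ S) (K : Precoverage Scheme.{u})
  [BigSite.AEtCont K S] [BigSite.AEtCont K T]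

/-- Restriction to small etale sites commutes with direct images. -/
noncomputable def resPushIso₀ :
    BigSite.resEt K T ⋙ EtCoh.push f ≅
      BigSite.pushBig K f AddCommGrpCat.{u + 1} ⋙ BigSite.resEt K S :=
  let e : EtCoh.bc f ⋙ EtFppf.a T ≅ EtFppf.a S ⋙ Over.pullback f :=
    MorphismProperty.Over.pullbackCompForgetIso (P := EtCoh.etaleMP) (Q := ⊤) f
  BaseChange.liftIso (Functor.isoWhiskerLeft (sheafToPresheaf (QuotSh.J K T) AddCommGrpCat.{u + 1})
    ((Functor.whiskeringLeft _ _ AddCommGrpCat.{u + 1}).mapIso (NatIso.op e.symm)))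

/-- Inverse image from small etale sites commutes with inverse images. -/
noncomputable def piPullIso :
    EtCoh.pull f ⋙ BigSite.piEtPull K T ≅
      BigSite.piEtPull K S ⋙ BigSite.pullBig K f AddCommGrpCat.{u + 1} :=
  Adjunction.leftAdjointUniq ((EtCoh.pullPushAdj f).comp (BigSite.piEtAdj K T))
    (((BigSite.piEtAdj K S).comp (BigSite.bigAdj K f AddCommGrpCat.{u + 1})).ofNatIsoRight
      (resPushIso₀ f K).symm)

variable {C : Type*} [Category C] {J : GrothendieckTopology C}
  [HasSheafify J AddCommGrpCat.{w}] [HasExt.{w₁} (Sheaf J AddCommGrpCat.{w})]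

/-- Cohomology of isomorphic sheaves. -/
noncomputable def hCongr {F G : Sheaf J AddCommGrpCat.{w}} (i : F ≅ G) (n : ℕ) :
    Sheaf.H.{w₁} F n ≃+ Sheaf.H.{w₁} G n where
  toFun e := e.comp (Ext.mk₀ i.hom) (add_zero n)
  invFun e := e.comp (Ext.mk₀ i.inv) (add_zero n)
  left_inv e := by
    dsimp only
    rw [Ext.comp_assoc_of_third_deg_zero, Ext.mk₀_comp_mk₀, i.hom_inv_id, Ext.comp_mk₀_id]
  right_inv e := by
    dsimp only
    rw [Ext.comp_assoc_of_third_deg_zero, Ext.mk₀_comp_mk₀, i.inv_hom_id, Ext.comp_mk₀_id]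
  map_add' e e' := Ext.add_comp _ _ _ _

end Groth.Agent.Lib.BigEt.PiPull
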